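import Groth.Prelude.Def_EtDual
import Groth.Agent.Lib.EtJ.MayerVietoris
import Groth.Agent.Lib.SpecSeq.HomExtNat
import Groth.Agent.H88.FreeSheaf

/-!
# Cohomology with supports as `Ext` groups out of `coker (j_! ℤ → ℤ)`
-/

set_option autoImplicit false

universe u

open CategoryTheory CategoryTheory.Limits CategoryTheory.Abelian AlgebraicGeometry Opposite

namespace Groth.Agent.H91.EtASDepth

open Groth.Agent.Lib.EtJ

variable {X U : Scheme.{u}} (j : U ⟶ X) [IsOpenImmersion j]

/-- The sheaf corepresenting sections with support off `U`. -/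
noncomputable abbrev suppObj : EtCoh.Ab X := cokernel (MayerVietoris.aug j)

theorem pull_map_eq_zero_iff {F : EtCoh.Ab X} (φ : EtCoh.const X ℤ ⟶ F) :
    MayerVietoris.aug j ≫ φ = 0 ↔ φ ≫ EtDual.unitApp j F = 0 := by
  have h1 : φ ≫ EtDual.unitApp j F = 0 ↔ (EtCoh.pull j).map φ = 0 := by
    have : φ ≫ EtDual.unitApp j F = (EtCoh.pullPushAdj j).homEquiv _ _ ((EtCoh.pull j).map φ) := by
      rw [Adjunction.homEquiv_unit]
      exact (EtCoh.pullPushAdj j).unit.naturality φ
    rw [this]
    constructor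
    · intro h
      refine ((EtCoh.pullPushAdj j).homEquiv _ _).injective (h.trans ?_)
      rw [Adjunction.homEquiv_unit, Functor.map_zero, comp_zero]
    · intro h
      rw [h, Adjunction.homEquiv_unit, Functor.map_zero, comp_zero]
  have h2 : MayerVietoris.aug j ≫ φ = 0 ↔ (EtCoh.pull j).map φ = 0 := by
    have hz : MayerVietoris.hom j F 0 = 0 := by
      rw [MayerVietoris.hom_eq, Functor.map_zero, comp_zero]
    rw [← (MayerVietoris.hom j F).apply_eq_iff_eq, hz, MayerVietoris.hom_comp, MayerVietoris.hom_aug]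
    constructor
    · intro h
      exact (cancel_epi (EtCore.pullConst j ℤ).inv).1 (h.trans comp_zero.symm)
    · intro h
      rw [h, comp_zero]
  rw [h1, h2]

/-- Sections with support off `U` are maps out of `suppObj j`. -/
noncomputable def homEquiv (F : EtCoh.Ab X) :
    (suppObj j ⟶ F) ≃+ (EtDual.gammaSupp j).obj F :=
  AddEquiv.trans
    { toFun := fun ψ => kernel.lift (EtDual.unitApp j F) (cokernel.π (MayerVietoris.aug j) ≫ ψ)
        ((pull_map_eq_zero_iff j _).1 (by rw [cokernel.condition_assoc, zero_comp]))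
      invFun := fun φ => cokernel.desc (MayerVietoris.aug j) (φ ≫ kernel.ι (EtDual.unitApp j F))
        ((pull_map_eq_zero_iff j _).2 (by rw [Category.assoc, kernel.condition, comp_zero]))
      left_inv := fun ψ => (cancel_epi (cokernel.π (MayerVietoris.aug j))).1 (by simp)
      right_inv := fun φ => (cancel_mono (kernel.ι (EtDual.unitApp j F))).1 (by simp)
      map_add' := fun a b => (cancel_mono (kernel.ι (EtDual.unitApp j F))).1
        (by simp) }
    (PullSec.elem X ((EtDual.secSupp j).obj F))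

theorem homEquiv_natural {F G : EtCoh.Ab X} (m : F ⟶ G) (ψ : suppObj j ⟶ F) :
    homEquiv j G (ψ ≫ m) = (EtDual.gammaSupp j).map m (homEquiv j F ψ) := by
  refine Eq.trans ?_ (PullSec.elem_comp X _ ((EtDual.secSupp j).map m))
  refine congrArg (PullSec.elem X _) ((cancel_mono (kernel.ι (EtDual.unitApp j G))).1 ?_)
  simp

/-- The natural isomorphism `Hom(suppObj j, -) ≅ Γ_Y(X, -)`. -/
noncomputable def homIso :
    Lib.SpecSeq.HomExt.homFunctor (suppObj j) ≅ EtDual.gammaSupp j :=
  NatIso.ofComponents (fun F => AddEquiv.toAddCommGrpIso (homEquiv j F))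
    (fun m => by
      refine ConcreteCategory.hom_ext _ _ fun ψ => ?_
      exact homEquiv_natural j m ψ)

/-- `H^i_Y(X, F) = Ext^i(suppObj j, F)`. -/
theorem nonempty_iso (F : EtCoh.Ab X) (i : ℕ) :
    Nonempty ((EtDual.HY j i).obj F ≅ AddCommGrpCat.of (Ext.{u + 1} (suppObj j) F i)) := by
  let R := injectiveResolution F
  exact ⟨R.isoRightDerivedObj (EtDual.gammaSupp j) i ≪≫
    (HomologicalComplex.homologyFunctor _ _ i).mapIso
      (((NatIso.mapHomologicalComplex (homIso j) _).app R.cocomplex).symm) ≪≫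
    Lib.SpecSeq.HomExtNat.homologyIso R (suppObj j) i⟩

theorem isZero_HY {F : EtCoh.Ab X} {i : ℕ} (h : Subsingleton (Ext.{u + 1} (suppObj j) F i)) :
    IsZero ((EtDual.HY j i).obj F) := by
  obtain ⟨e⟩ := nonempty_iso j F i
  exact IsZero.of_iso (@AddCommGrpCat.isZero_of_subsingleton _ h) e

/-- The inclusion of `U` into the final object of the site. -/
noncomputable abbrev objHom : MayerVietoris.obj j ⟶ EtCoh.top X :=
  (EtCore.topIsTerminal X).from (MayerVietoris.obj j)

instance mono_objHom : Mono (objHom j) := by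
  refine (Scheme.Etale.forget X).mono_of_mono_map ?_
  refine (Over.forget X).mono_of_mono_map ?_
  have e : (objHom j).left = j := (Category.comp_id _).symm.trans (MorphismProperty.Over.w (objHom j))
  change Mono (objHom j).left
  rw [e]
  exact (inferInstance : Mono j)

instance mono_aug : Mono (MayerVietoris.aug j) := by
  refine Preadditive.mono_of_kernel_zero ?_
  obtain ⟨P⟩ := EnoughInjectives.presentation (kernel (MayerVietoris.aug j))
  haveI := P.mono
  haveI := P.injective
  obtain ⟨a, ha⟩ := Injective.factors P.f (kernel.ι (MayerVietoris.aug j))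
  obtain ⟨s, hs⟩ := H88.FreeSheaf.map_surjective_of_injective (objHom j) P.J (MayerVietoris.ev j P.J a)
  obtain ⟨φ, rfl⟩ := (PullSec.elem X P.J).surjective s
  have e : MayerVietoris.aug j ≫ φ = a :=
    (MayerVietoris.ev j P.J).injective ((MayerVietoris.ev_aug j φ).trans hs)
  have h0 : P.f = 0 := by rw [← ha, ← e, kernel.condition_assoc, zero_comp]
  have : 𝟙 (kernel (MayerVietoris.aug j)) = 0 := (cancel_mono P.f).1 (by rw [h0, comp_zero, comp_zero])
  rw [← Category.id_comp (kernel.ι _), this, zero_comp]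

/-- Vanishing of `Ext^i(suppObj j, F)` from restriction of cohomology to `U`. -/
theorem subsingleton_ext_succ {F : EtCoh.Ab X} (i : ℕ)
    (hX : Subsingleton (EtCoh.H X F (i + 1)))
    (hU : ∀ x : Ext.{u + 1} (MayerVietoris.free j) F i, ∃ y : Ext.{u + 1} (EtCoh.const X ℤ) F i,
      (Ext.mk₀ (MayerVietoris.aug j)).comp y (zero_add i) = x) :
    Subsingleton (Ext.{u + 1} (suppObj j) F (i + 1)) := by
  let S : ShortComplex (EtCoh.Ab X) := ShortComplex.mk (MayerVietoris.aug j)
    (cokernel.π (MayerVietoris.aug j)) (cokernel.condition _)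
  have hS : S.ShortExact := { exact := ShortComplex.exact_of_g_is_cokernel _ (cokernelIsCokernel _) }
  refine subsingleton_of_forall_eq 0 fun e => ?_
  obtain ⟨x, hx⟩ := Ext.contravariant_sequence_exact₃ hS F e (@Subsingleton.elim _ hX _ _)
    (show 1 + i = i + 1 from add_comm 1 i)
  obtain ⟨y, hy⟩ := hU x
  rw [← hx, ← hy, ← Ext.comp_assoc hS.extClass (Ext.mk₀ S.f) y (add_zero 1) (zero_add i) (by omega),
    hS.extClass_comp, Ext.zero_comp]

theorem subsingleton_ext_zero {F : EtCoh.Ab X}
    (h : ∀ φ : EtCoh.const X ℤ ⟶ F, MayerVietoris.aug j ≫ φ = 0 → φ = 0) :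
    Subsingleton (Ext.{u + 1} (suppObj j) F 0) := by
  refine subsingleton_of_forall_eq 0 fun e => ?_
  obtain ⟨ψ, rfl⟩ := (Ext.mk₀_bijective _ _).2 e
  have hψ : cokernel.π (MayerVietoris.aug j) ≫ ψ = 0 :=
    h _ (by rw [cokernel.condition_assoc, zero_comp])
  exact (congrArg Ext.mk₀ ((cancel_epi (cokernel.π (MayerVietoris.aug j))).1 (hψ.trans comp_zero.symm))).trans (Ext.mk₀_zero _ _)

end Groth.Agent.H91.EtASDepth
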