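import Groth.Agent.H91.EtASDepth.Vanish
import Groth.Agent.Lib.EtSite.ArtinSchreier
import Groth.Prelude.Def_FEt

/-!
# Vanishing of local cohomology of `ℤ/p` below the depth in characteristic `p`
-/

set_option autoImplicit false

universe u

open CategoryTheory CategoryTheory.Limits CategoryTheory.Abelian AlgebraicGeometry Opposite

namespace Groth.Agent.H91.EtASDepth

open Groth.Agent.Lib.EtSite

theorem subsingleton_ext_const {X U : Scheme.{u}} (j : U ⟶ X) [IsOpenImmersion j] (p : ℕ) [Fact p.Prime]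
    (h0 : (p : Γ(X, ⊤)) = 0) (i : ℕ)
    (h : ∀ k ≤ i, Subsingleton (Ext.{u + 1} (suppObj j) (EtCoh.Ga X) k)) :
    Subsingleton (Ext.{u + 1} (suppObj j) (EtCoh.const X (ZMod p)) i) := by
  let S : ShortComplex (EtCoh.Ab X) := ShortComplex.mk (ArtinSchreier.incl p h0)
    (ArtinSchreier.frobSub p h0) (ArtinSchreier.incl_frobSub p h0)
  have hS : S.ShortExact := ArtinSchreier.shortExact p h0
  refine subsingleton_of_forall_eq 0 fun e => ?_
  rcases i with _ | i
  · obtain ⟨ψ, rfl⟩ := (Ext.mk₀_bijective _ _).2 e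
    haveI := h 0 le_rfl
    have hψ : ψ ≫ ArtinSchreier.incl p h0 = 0 :=
      (Ext.mk₀_bijective _ _).1 (Subsingleton.elim _ _)
    haveI := ArtinSchreier.mono_incl p h0
    rw [(cancel_mono (ArtinSchreier.incl p h0)).1 (hψ.trans zero_comp.symm), Ext.mk₀_zero]
  · obtain ⟨x, hx⟩ := Ext.covariant_sequence_exact₁ (suppObj j) hS e
      (@Subsingleton.elim _ (h (i + 1) le_rfl) _ _) rfl
    rw [← hx, @Subsingleton.elim _ (h i (Nat.le_succ i)) x 0, Ext.zero_comp]

theorem puncturedSpec_eq (R : Type u) [CommRing R] [IsLocalRing R] :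
    FEt.puncturedSpec R = LocCoh.puncturedOpen R (IsLocalRing.maximalIdeal R) :=
  TopologicalSpace.Opens.ext (Set.ext fun q => by
    show q ≠ IsLocalRing.closedPoint R ↔ ¬ ((IsLocalRing.maximalIdeal R : Set R) ⊆ (q.asIdeal : Set R))
    refine not_congr ⟨fun h => by rw [h]; rfl, fun h => ?_⟩
    exact PrimeSpectrum.ext ((IsLocalRing.maximalIdeal.isMaximal R).eq_of_le q.isPrime.ne_top h).symm)

/-- Below the depth the local cohomology of `ℤ/p` at the closed point vanishes. -/
theorem isZero_HY_punctured (p : ℕ) [Fact p.Prime] (R : Type u) [CommRing R] [IsNoetherianRing R]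
    [IsLocalRing R] [CharP R p] (i : ℕ) (hi : ((i + 1 : ℕ) : ℕ∞) ≤ LocCoh.depth R R) :
    IsZero ((EtDual.HY (FEt.puncturedSpec R).ι i).obj
      (EtCoh.const (Spec (CommRingCat.of R)) (ZMod p))) := by
  rw [puncturedSpec_eq]
  refine isZero_HY _ (subsingleton_ext_const _ p ?_ i fun k hk =>
    subsingleton_ext_Ga R _ k (le_trans (Nat.cast_le.2 (by omega)) hi))
  rw [← map_natCast (Scheme.ΓSpecIso (CommRingCat.of R)).inv.hom p]
  show (Scheme.ΓSpecIso (CommRingCat.of R)).inv.hom ((p : R)) = 0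
  rw [CharP.cast_eq_zero R p, map_zero]

end Groth.Agent.H91.EtASDepth
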