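import Groth.Agent.H91.EtASDepth.Basic
import Groth.Agent.Lib.EtQCoh.GaEnd
import Groth.Agent.Lib.LCFin.PuncturedSections
import Groth.Agent.S0356

/-!
# Vanishing of the étale local cohomology of `G_a` below the depth
-/

set_option autoImplicit false

universe u

open CategoryTheory CategoryTheory.Limits CategoryTheory.Abelian AlgebraicGeometry Opposite

namespace Groth.Agent.H91.EtASDepth

open Groth.Agent.Lib.EtJ

section

variable {X U : Scheme.{u}} (j : U ⟶ X) [IsOpenImmersion j]

/-- `G_a` restricts to `G_a`. -/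
noncomputable def restrGa : (EtShriek.restrAlong j).obj (EtCoh.Ga X) ≅ EtCoh.Ga U := Iso.refl _

theorem subsingleton_ext_free {F : EtCoh.Ab X} {G : EtCoh.Ab U} (e : (EtCoh.pull j).obj F ≅ G) (q : ℕ)
    (h : Subsingleton (EtCoh.H U G q)) :
    Subsingleton (Ext.{u + 1} (MayerVietoris.free j) F q) := by
  have : Subsingleton (EtCoh.H U ((EtCoh.pull j).obj F) q) :=
    @Equiv.subsingleton _ _ ((EtCoh.HF U q).mapIso e).addCommGroupIsoToAddEquiv.toEquiv h
  exact (MayerVietoris.Φ j F q).toEquiv.subsingleton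

theorem exists_sect {F : EtCoh.Ab X} (x : Ext.{u + 1} (MayerVietoris.free j) F 0)
    (h : Function.Surjective (F.obj.map (objHom j).op)) :
    ∃ y : Ext.{u + 1} (EtCoh.const X ℤ) F 0,
      (Ext.mk₀ (MayerVietoris.aug j)).comp y (zero_add 0) = x := by
  obtain ⟨a, rfl⟩ := (Ext.mk₀_bijective _ _).2 x
  obtain ⟨s, hs⟩ := h (MayerVietoris.ev j F a)
  obtain ⟨φ, rfl⟩ := (PullSec.elem X F).surjective s
  refine ⟨Ext.mk₀ φ, ?_⟩
  rw [Ext.mk₀_comp_mk₀, (MayerVietoris.ev j F).injective ((MayerVietoris.ev_aug j φ).trans hs)]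

theorem eq_zero_of_aug_comp {F : EtCoh.Ab X} (φ : EtCoh.const X ℤ ⟶ F)
    (h : Function.Injective (F.obj.map (objHom j).op)) (hφ : MayerVietoris.aug j ≫ φ = 0) : φ = 0 := by
  refine (PullSec.elem X F).injective (h ?_)
  rw [← MayerVietoris.ev_aug j φ, ← MayerVietoris.ev_aug j (0 : EtCoh.const X ℤ ⟶ F), hφ, comp_zero]

theorem ga_map_surjective (h : Function.Surjective j.appTop) :
    Function.Surjective ((EtCoh.Ga X).obj.map (objHom j).op) := by
  have e : (objHom j).left = j :=
    (Category.comp_id _).symm.trans (MorphismProperty.Over.w (objHom j))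
  intro t
  obtain ⟨a, ha⟩ := h t.down
  refine ⟨ULift.up a, ULift.ext _ _ ?_⟩
  change (objHom j).left.appTop a = _
  rw [e]
  exact ha

theorem ga_map_injective (h : Function.Injective j.appTop) :
    Function.Injective ((EtCoh.Ga X).obj.map (objHom j).op) := by
  have e : (objHom j).left = j :=
    (Category.comp_id _).symm.trans (MorphismProperty.Over.w (objHom j))
  intro s t hst
  have h' : (objHom j).left.appTop s.down = (objHom j).left.appTop t.down := congrArg ULift.down hst
  rw [e] at h'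
  exact ULift.ext _ _ (h h')

end

section

variable (R : Type u) [CommRing R] [IsNoetherianRing R] (I : Ideal R)

/-- The structure sheaf of the punctured spectrum. -/
noncomputable def structIso :
    (tilde (R := CommRingCat.of R) (ModuleCat.of R R)).restrict (LocCoh.puncturedOpen R I).ι ≅
      Coh.structureModule (LocCoh.puncturedOpen R I : Scheme.{u}) :=
  (Scheme.Modules.restrictFunctor (LocCoh.puncturedOpen R I).ι).mapIso tildeSelf ≪≫
    Scheme.Modules.restrictUnitIso _

theorem subsingleton_H_Ga_punctured (q : ℕ) (hq : 1 ≤ q) (h : Subsingleton (LocCoh.H I (q + 1) R)) :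
    Subsingleton (EtCoh.H (LocCoh.puncturedOpen R I : Scheme.{u})
      (EtCoh.Ga (LocCoh.puncturedOpen R I : Scheme.{u})) q) := by
  obtain ⟨e, -⟩ := Lib.EtQCoh.GaEnd.exists_equiv (X := (LocCoh.puncturedOpen R I : Scheme.{u})) q
  obtain ⟨f⟩ := Groth.Agent.S0356.result R I R q hq
  haveI : Subsingleton (Coh.HH (LocCoh.puncturedOpen R I : Scheme.{u})
      (Coh.structureModule (LocCoh.puncturedOpen R I : Scheme.{u})) q) :=
    @Equiv.subsingleton _ _ (((@Sheaf.functorH _ _ (Opens.grothendieckTopology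
      (LocCoh.puncturedOpen R I : Scheme.{u})) (inferInstance : HasSheafify _ AddCommGrpCat.{u}) _ q).mapIso ((SheafOfModules.toSheaf _).mapIso
        (structIso R I).symm)).addCommGroupIsoToAddEquiv.trans f).toEquiv h
  exact e.toEquiv.subsingleton

theorem toGlobal_eq (a : R) :
    Coh.toGlobal ((LocCoh.puncturedOpen R I : Scheme.{u}) ↘ Spec (CommRingCat.of R)) a =
      (LocCoh.puncturedOpen R I).ι.appTop ((Scheme.ΓSpecIso (CommRingCat.of R)).inv a) := rfl

theorem toGlobal_injective (h : Subsingleton (LocCoh.H I 0 (ModuleCat.of R R))) :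
    Function.Injective (Coh.toGlobal ((LocCoh.puncturedOpen R I : Scheme.{u}) ↘ Spec (CommRingCat.of R))) := by
  open Groth.Agent.Lib.LocalCoh Groth.Agent.Lib.LCFin.PuncturedArt Groth.Agent.H20.TildeSections in
  let M := ModuleCat.of R R
  have key : (⨆ n : ℕ, LocCoh.torsionBy (I ^ n) M) = ⊥ := by
    refine iSup_eq_bot.2 fun n => (Submodule.eq_bot_iff _).2 fun m hm => ?_
    let ζ := ((Groth.Agent.Lib.LocalCoh.lcZeroIso I).app M).toLinearEquiv
    have hs := ζ.symm.injective.subsingleton
    exact congrArg Subtype.val (hs.elim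
      ⟨m, n, fun a ha => (Submodule.mem_torsionBySet_iff _ _).1 hm ⟨a, ha⟩⟩ 0)
  refine (injective_iff_map_eq_zero _).2 fun a ha => ?_
  have hb : Groth.Agent.H20.TildeSections.toU M (LocCoh.puncturedOpen R I) a = 0 := by
    obtain ⟨x, hx⟩ := Groth.Agent.Lib.LCFin.PuncturedArt.sec_surjective I M 0
    have e : Groth.Agent.Lib.LCFin.PuncturedArt.sec I M
        (Groth.Agent.H20.TildeSections.toU M (LocCoh.puncturedOpen R I) a) = 0 :=
      Eq.trans (Subtype.ext (funext fun z => rfl)) ha
    have hinj : Function.Injective (Groth.Agent.Lib.LCFin.PuncturedArt.sec I M) :=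
      Function.LeftInverse.injective
        (g := Groth.Agent.Lib.QCoh.Localizing.res (tilde (R := CommRingCat.of R) M)
          (LocCoh.puncturedOpen R I).ι_image_top.ge)
        fun y => (Groth.Agent.Lib.QCoh.Localizing.res_res _ _ _).trans
          (Groth.Agent.Lib.QCoh.Localizing.res_self _ _)
    exact hinj (e.trans (map_zero _).symm)
  have hm : a ∈ LinearMap.ker (Groth.Agent.H20.TildeSections.toU M (LocCoh.puncturedOpen R I)) :=
    LinearMap.mem_ker.2 hb
  rw [Groth.Agent.H20.TildeSections.ker_toU M I, key] at hm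
  exact (Submodule.mem_bot R).1 hm

theorem subsingleton_ext_Ga (i : ℕ) (hi : ((i + 1 : ℕ) : ℕ∞) ≤ LocCoh.idealDepth I R) :
    Subsingleton (Ext.{u + 1} (suppObj (LocCoh.puncturedOpen R I).ι)
      (EtCoh.Ga (Spec (CommRingCat.of R))) i) := by
  have hH := (Lib.Depth.LocalCoh.le_idealDepth_iff_H I R (i + 1)).1 hi
  rcases i with _ | i
  · refine subsingleton_ext_zero _ fun φ hφ => eq_zero_of_aug_comp _ φ (ga_map_injective _ ?_) hφ
    intro a b hab
    obtain ⟨a, rfl⟩ := (ConcreteCategory.bijective_of_isIso (Scheme.ΓSpecIso (CommRingCat.of R)).inv).2 a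
    obtain ⟨b, rfl⟩ := (ConcreteCategory.bijective_of_isIso (Scheme.ΓSpecIso (CommRingCat.of R)).inv).2 b
    exact congrArg _ (toGlobal_injective R I (hH 0 (by omega)) hab)
  · refine subsingleton_ext_succ _ i (Lib.EtQCoh.GaAssoc.subsingleton_H_Ga (i + 1) (by omega)) ?_
    rcases i with _ | i
    · refine fun x => exists_sect _ x (ga_map_surjective _ fun t => ?_)
      obtain ⟨a, ha⟩ := Lib.LCFin.PuncturedSections.toGlobal_surjective (A := R) I hi t
      exact ⟨_, ha⟩
    · have : Subsingleton (Ext.{u + 1} (MayerVietoris.free (LocCoh.puncturedOpen R I).ι)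
          (EtCoh.Ga (Spec (CommRingCat.of R))) (i + 1)) :=
        subsingleton_ext_free _ ((Basic.pullIsoRestr _).app _ ≪≫ restrGa _) (i + 1)
          (subsingleton_H_Ga_punctured R I (i + 1) (by omega) (hH (i + 2) (by omega)))
      exact fun x => ⟨0, Subsingleton.elim _ _⟩

end

end Groth.Agent.H91.EtASDepth
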